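import Cfsg.Agent.H634.SdDef
import Cfsg.Agent.S4583
import Cfsg.Agent.S0867
import Cfsg.Agent.CharactersDeep.ExtUnique
import Cfsg.Agent.Characters.Clifford

/-!
# S4579, R8: lifting from a perfect normal subgroup (helper893)
-/

set_option autoImplicit false

open Cfsg Subgroup
open scoped ComplexConjugate

namespace Cfsg.Agent.H893.Sd

open Cfsg.Agent.H634.Sd Cfsg.Agent.Characters.Core Cfsg.Agent.Characters.Clifford

universe u

theorem detOrder_eq_one {N : Type u} [Group N] [Finite N] (hperf : commutator N = ⊤) {θ : N → ℂ}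
    (hθ : IsIrrCharacter N θ) : detOrder θ = 1 := by
  obtain ⟨δ, hδ⟩ := CharactersDeep.ExtUnique.exists_hom_detChar hθ
  have h1 : detChar θ = 1 := by
    funext g
    rw [hδ]
    have h2 : g ∈ commutator N := by rw [hperf]; trivial
    have h3 : commutator N ≤ δ.ker := Abelianization.commutator_subset_ker δ
    rw [h3 h2]
    rfl
  unfold detOrder
  rw [h1, orderOf_one]

theorem charDegree_eq {N : Type u} [Group N] (θ : IrrCharacter N) : (θ : N → ℂ) 1 = (charDegree (θ : N → ℂ) : ℂ) := by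
  obtain ⟨n, -, hn⟩ := isIrr_apply_one θ.2
  unfold charDegree
  rw [hn]
  simp

/-- the stabiliser of a function on a normal subgroup -/
def stab {G : Type u} [Group G] (N : Subgroup G) [hN : N.Normal] (θ : N → ℂ) : Subgroup G where
  carrier := {g | ∀ n : N, θ ⟨g * n * g⁻¹, hN.conj_mem (n : G) n.2 g⟩ = θ n}
  one_mem' := fun n => by
    refine congrArg θ (Subtype.ext ?_)
    show (1 : G) * n * 1⁻¹ = n
    group
  mul_mem' := by
    intro a b ha hb n
    have h1 := ha ⟨b * n * b⁻¹, hN.conj_mem (n : G) n.2 b⟩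
    rw [← hb n, ← h1]
    refine congrArg θ (Subtype.ext ?_)
    show a * b * (n : G) * (a * b)⁻¹ = a * (b * n * b⁻¹) * a⁻¹
    group
  inv_mem' := by
    intro a ha n
    have h1 := ha ⟨a⁻¹ * n * a⁻¹⁻¹, hN.conj_mem (n : G) n.2 a⁻¹⟩
    rw [← h1]
    refine congrArg θ (Subtype.ext ?_)
    show a * (a⁻¹ * n * a⁻¹⁻¹) * a⁻¹ = n
    group

/-- The extension of a `P`-invariant character of `p'`-degree of a perfect normal subgroup `N` to `N ⊔ P`. -/
theorem exists_ext {G : Type u} [Group G] [Finite G] (N : Subgroup G) [hN : N.Normal] {p : ℕ} [hp : Fact p.Prime]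
    (P : Sylow p G) (hperf : commutator N = ⊤) (θ : IrrCharacter N) (hdeg : ¬ p ∣ charDegree (θ : N → ℂ))
    (hinv : ∀ g ∈ (P : Subgroup G), ∀ n : N, (θ : N → ℂ) ⟨g * n * g⁻¹, hN.conj_mem (n : G) n.2 g⟩ = (θ : N → ℂ) n) :
    ∃ η : IrrCharacter ↥(N ⊔ (P : Subgroup G)), ∀ n : N,
      (η : ↥(N ⊔ (P : Subgroup G)) → ℂ) (Subgroup.inclusion le_sup_left n) = (θ : N → ℂ) n := by
  classical
  obtain ⟨H, hH⟩ : ∃ H : Subgroup G, H = N ⊔ (P : Subgroup G) := ⟨_, rfl⟩
  have hNH : N ≤ H := hH ▸ le_sup_left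
  have key : ∃ η : IrrCharacter H, ∀ n : N, (η : H → ℂ) (Subgroup.inclusion hNH n) = (θ : N → ℂ) n := by
    let e : N ≃* N.subgroupOf H := (Subgroup.subgroupOfEquivOfLe hNH).symm
    obtain ⟨θ', hθ'⟩ : ∃ θ' : N.subgroupOf H → ℂ, θ' = (θ : N → ℂ) ∘ e.symm := ⟨_, rfl⟩
    have hθ'irr : IsIrrCharacter (N.subgroupOf H) θ' := by
      rw [hθ']
      exact isIrr_comp e.symm.toMonoidHom e.symm.surjective θ.2
    have hperf' : commutator (N.subgroupOf H) = ⊤ := by
      rw [commutator_def, ← Subgroup.map_top_of_surjective e.toMonoidHom e.surjective, ← Subgroup.map_commutator,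
        ← commutator_def, hperf, Subgroup.map_top_of_surjective e.toMonoidHom e.surjective]
    -- invariance under `H`
    have hinvH : H ≤ stab N (θ : N → ℂ) := by
      rw [hH]
      refine sup_le ?_ fun g hg => hinv g hg
      intro g hg n
      have h3 := isIrr_isClassFunction θ.2 n ⟨g, hg⟩
      rw [← h3]
      rfl
    have hinv' : ∀ (g : H) (n : N.subgroupOf H), θ' ⟨g * n * g⁻¹,
        (inferInstance : (N.subgroupOf H).Normal).conj_mem (n : H) n.2 g⟩ = θ' n := by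
      intro g n
      rw [hθ']
      exact hinvH g.2 (e.symm n)
    have hidx : ∃ k : ℕ, (N.subgroupOf H).index = p ^ k := by
      have h1 : (N.subgroupOf H).index ∣ Nat.card (P : Subgroup G) := by
        change N.relIndex H ∣ _
        rw [hH, sup_comm, Subgroup.relIndex_sup_right]
        exact Subgroup.relIndex_dvd_card _ _
      obtain ⟨n, hn⟩ := P.2.exists_card_eq
      rw [hn] at h1
      obtain ⟨k, -, hk⟩ := (Nat.dvd_prime_pow Fact.out).1 h1
      exact ⟨k, hk⟩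
    have hθ'1 : θ' 1 = (charDegree (θ : N → ℂ) : ℂ) := by
      rw [hθ', Function.comp_apply, map_one]
      exact charDegree_eq θ
    obtain ⟨η, ⟨hη, hηθ, -⟩, -⟩ := S0867.result (N.subgroupOf H) θ' hθ'irr hinv' (charDegree (θ : N → ℂ)) hθ'1 (by
      rw [detOrder_eq_one hperf' hθ'irr, one_mul]
      obtain ⟨k, hk⟩ := hidx
      rw [hk]
      exact Nat.Coprime.pow_left k ((Nat.Prime.coprime_iff_not_dvd hp.1).2 hdeg))
    refine ⟨⟨η, hη⟩, fun n => ?_⟩
    have h4 := hηθ (e n)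
    rw [hθ', Function.comp_apply, MulEquiv.symm_apply_apply] at h4
    exact h4
  subst hH
  exact key

variable {G : Type u} [Group G] [Finite G] {M : Ideal AlgInt}

/-- **R8**. -/
theorem lift [Fact (Nat.Prime 2)] (hM : IsPModular 2 M) (N : Subgroup G) [hN : N.Normal]
    (hperf : ⁅N, N⁆ = N) (P : Sylow 2 G) (Θ : IrrCharacter N) (hΘ : Θ ∈ principalBlock M N)
    (hodd : Odd (charDegree (Θ : N → ℂ)))
    (hinv : ∀ g ∈ (P : Subgroup G), ∀ n : N,
        (Θ : N → ℂ) ⟨g * n * g⁻¹, hN.conj_mem (n : G) n.2 g⟩ = (Θ : N → ℂ) n)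
    (hnr : ∃ n : N, ((Θ : N → ℂ) n).im ≠ 0) : HasNR M G := by
  classical
  let _ : Fintype G := Fintype.ofFinite G
  let _ : Fintype N := Fintype.ofFinite N
  have hperf' : commutator N = ⊤ := by
    have hmap : (commutator N).map N.subtype = ⁅N, N⁆ := by
      rw [commutator_def, Subgroup.map_commutator, ← MonoidHom.range_eq_map, Subgroup.range_subtype]
    rw [hperf] at hmap
    apply Subgroup.map_injective N.subtype_injective
    rw [hmap, ← MonoidHom.range_eq_map, Subgroup.range_subtype]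
  have hdeg : ¬ 2 ∣ charDegree (Θ : N → ℂ) := by
    rw [← even_iff_two_dvd, Nat.not_even_iff_odd]
    exact hodd
  obtain ⟨χ, hχ, hχ2, hχΘ⟩ := S4583.result N 2 M hM P Θ hΘ hdeg (exists_ext N P hperf' Θ hdeg hinv)
  refine ⟨χ, hχ, by rwa [← even_iff_two_dvd, Nat.not_even_iff_odd] at hχ2, ?_⟩
  by_contra hreal
  push Not at hreal
  have hcχ : ∀ g : G, conj ((χ : G → ℂ) g) = (χ : G → ℂ) g := fun g => Complex.conj_eq_iff_im.2 (hreal g)
  -- the conjugate of `Θ` is a constituent too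
  have hΘ' : IsIrrCharacter N (fun n : N => conj ((Θ : N → ℂ) n)) := isIrr_conj Θ.2
  have h1 : classInner (fun n : N => (χ : G → ℂ) n) (Θ : N → ℂ) ≠ 0 := by
    convert hχΘ
  have h2 : classInner (fun n : N => (χ : G → ℂ) n) (fun n : N => conj ((Θ : N → ℂ) n)) ≠ 0 := by
    intro h
    apply h1
    rw [classInner_def] at h ⊢
    have h3 := congrArg conj h
    rw [map_mul, map_sum, map_zero] at h3
    have h4 : ∀ n : N, conj ((χ : G → ℂ) n * conj (conj ((Θ : N → ℂ) n))) = (χ : G → ℂ) n * conj ((Θ : N → ℂ) n) := by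
      intro n
      rw [map_mul, hcχ, Complex.conj_conj]
    rw [Finset.sum_congr rfl fun n _ => h4 n, map_inv₀, Complex.conj_natCast] at h3
    exact h3
  obtain ⟨g, hg⟩ := exists_conj_of_constituents N χ.2 Θ.2 hΘ' h1 h2
  have hg' : ∀ n : N, (Θ : N → ℂ) ⟨g * n * g⁻¹, hN.conj_mem (n : G) n.2 g⟩ = conj ((Θ : N → ℂ) n) :=
    fun n => (congrFun hg n).symm
  obtain ⟨n₀, hn₀⟩ := hnr
  have hgT : g ∉ stab N (Θ : N → ℂ) := by
    intro h
    apply hn₀
    rw [← Complex.conj_eq_iff_im, ← hg' n₀, h n₀]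
  -- the stabiliser of `{Θ, conj Θ}`
  let T' : Subgroup G :=
    { carrier := {x | (∀ n : N, (Θ : N → ℂ) ⟨x * n * x⁻¹, hN.conj_mem (n : G) n.2 x⟩ = (Θ : N → ℂ) n) ∨
        ∀ n : N, (Θ : N → ℂ) ⟨x * n * x⁻¹, hN.conj_mem (n : G) n.2 x⟩ = conj ((Θ : N → ℂ) n)}
      one_mem' := Or.inl (one_mem (stab N (Θ : N → ℂ)))
      mul_mem' := by
        intro a b ha hb
        have e : ∀ n : N, (Θ : N → ℂ) ⟨a * b * n * (a * b)⁻¹, hN.conj_mem (n : G) n.2 (a * b)⟩ =
            (Θ : N → ℂ) ⟨a * (⟨b * n * b⁻¹, hN.conj_mem (n : G) n.2 b⟩ : N) * a⁻¹,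
              hN.conj_mem _ (hN.conj_mem (n : G) n.2 b) a⟩ := by
          intro n
          refine congrArg (Θ : N → ℂ) (Subtype.ext ?_)
          show a * b * (n : G) * (a * b)⁻¹ = a * (b * n * b⁻¹) * a⁻¹
          group
        rcases ha with ha | ha <;> rcases hb with hb | hb
        · left; intro n; rw [e, ha, hb]
        · right; intro n; rw [e, ha, hb]
        · right; intro n; rw [e, ha, hb]
        · left; intro n; rw [e, ha, hb, Complex.conj_conj]
      inv_mem' := by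
        intro a ha
        have e : ∀ n : N, (Θ : N → ℂ) n = (Θ : N → ℂ) ⟨a * (⟨a⁻¹ * n * a⁻¹⁻¹, hN.conj_mem (n : G) n.2 a⁻¹⟩ : N) * a⁻¹,
              hN.conj_mem _ (hN.conj_mem (n : G) n.2 a⁻¹) a⟩ := by
          intro n
          refine congrArg (Θ : N → ℂ) (Subtype.ext ?_)
          show (n : G) = a * (a⁻¹ * n * a⁻¹⁻¹) * a⁻¹
          group
        rcases ha with ha | ha
        · left; intro n; rw [e n, ha]
        · right; intro n; rw [e n, ha, Complex.conj_conj] }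
  have hTT : stab N (Θ : N → ℂ) ≤ T' := fun x hx => Or.inl hx
  have hgT' : g ∈ T' := Or.inr hg'
  have hrel : (stab N (Θ : N → ℂ)).relIndex T' = 2 := by
    unfold Subgroup.relIndex
    rw [Subgroup.index_eq_two_iff]
    refine ⟨⟨g, hgT'⟩, fun b => ?_⟩
    rw [Subgroup.mem_subgroupOf, Subgroup.mem_subgroupOf]
    by_cases hb : (b : G) ∈ stab N (Θ : N → ℂ)
    · refine Or.inr ⟨hb, fun h => hgT ?_⟩
      have h5 := mul_mem (inv_mem hb) h
      rwa [Subgroup.coe_mul, inv_mul_cancel_left] at h5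
    · refine Or.inl ⟨?_, hb⟩
      rcases b.2 with h5 | h5
      · exact absurd h5 hb
      · intro n
        have e : (Θ : N → ℂ) ⟨((b * ⟨g, hgT'⟩ : T') : G) * n * ((b * ⟨g, hgT'⟩ : T') : G)⁻¹,
            hN.conj_mem (n : G) n.2 _⟩ = (Θ : N → ℂ) ⟨(b : G) * (⟨g * n * g⁻¹, hN.conj_mem (n : G) n.2 g⟩ : N) * (b : G)⁻¹,
              hN.conj_mem _ (hN.conj_mem (n : G) n.2 g) b⟩ := by
          refine congrArg (Θ : N → ℂ) (Subtype.ext ?_)
          show (b : G) * g * (n : G) * ((b : G) * g)⁻¹ = b * (g * n * g⁻¹) * (b : G)⁻¹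
          group
        rw [e, h5, hg', Complex.conj_conj]
  have h6 : 2 ∣ (stab N (Θ : N → ℂ)).index := by
    rw [← Subgroup.relIndex_mul_index hTT, hrel]
    exact dvd_mul_right _ _
  exact P.not_dvd_index (h6.trans (Subgroup.index_dvd_of_le fun x hx => hinv x hx))

end Cfsg.Agent.H893.Sd
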